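import Cfsg.Agent.S0366
import Cfsg.Agent.SporadicStructure.M24El
import Cfsg.Agent.SporadicStructure.M24Frame

/-!
# Cosets of the stabiliser of four points in `M24`

`UT`, `VT`, `WT`: packed elements fixing `∞, 0, 1, 2` (and `3`; and `5`) and moving `3` (`5`; `4`) to every possible
point. Every element of `M24` fixing `∞, 0, 1, 2` is a product `u v w` (960 elements).
-/

set_option autoImplicit false

namespace Cfsg.Agent.H517.Ore.MBase

open Cfsg Cfsg.Agent.SporadicA.GolayBase Cfsg.Agent.SporadicA.GolayPerm
open Cfsg.Agent.SporadicStructure.M24El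
open scoped Pointwise

/-- elements fixing `∞, 0, 1, 2`, moving `3` -/
def UT : List ℕ := [
  984818244535754528103549039458486304, 963559371300295047384285504089491488, 960926506856767834694378421742635040,
  965901019967527189586544296796031008, 984350077466729966331496910190512160, 981997485533995640326108265438251040,
  959578120397050514953330268730329120, 979332487912006545272831294409345056, 963755665108038844989100794309871648,
  967779203209842851463853395925141536, 971255728718065559142170291336546336, 969121744971674049307691893229291552,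
  976728811570646295706273363006031904, 975309541861974457047851936507234336, 976978698201109872514653476119676960,
  984154630448920748845654661843716128, 968571400229892424521567095052929056, 980512851159382908514979656779827232,
  977802778986983841625232040368179232, 970375705500203540640006387094194208]

/-- elements fixing `∞, 0, 1, 2, 3`, moving `5` -/
def VT : List ℕ := [
  984818244535754528103549039458486304, 975754295934893126319599781779965984, 982125237077252311731715764534741024]

/-- elements fixing `∞, 0, 1, 2, 3, 5`, moving `4` -/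
def WT : List ℕ := [
  984818244535754528103549039458486304, 965128854020860192151391391390468128, 963721886883755259286232606933354528,
  979121071158219704299181131031480352, 968708902336673183175954409307867168, 967812279691448225500382947153381408,
  971592882964418941354553515258775584, 970499966350631336865513127433832480, 976448692869377735270425038196672544,
  981818691054096003685363657089320992, 972512676110088067912772961567868960, 966182099583441531322624363496310816,
  983548720921252936276249910206105632, 975346028712660580592452217730074656, 980224387687010295957922729495201824,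
  961365507626256404119956257276790816]

/-- whether the points of `l` are fixed -/
def fixL (P : ℕ) (l : List ℕ) : Bool := l.all fun i => Nat.beq (papp P i) i

theorem u_ok : (UT.all fun P => ok P && fixL P [23, 0, 1, 2]) = true := by decide +kernel
theorem v_ok : (VT.all fun P => ok P && fixL P [3, 23, 0, 1, 2]) = true := by decide +kernel
theorem w_ok : (WT.all fun P => ok P && fixL P [5, 3, 23, 0, 1, 2]) = true := by decide +kernel

theorem u_cov : ((List.range 24).all fun q => [23, 0, 1, 2].any (Nat.beq q) ||
    UT.any fun P => Nat.beq (papp P 3) q) = true := by decide +kernel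
theorem v_cov : ((List.range 24).all fun q => !((8536111 : ℕ).testBit q) || [3, 23, 0, 1, 2].any (Nat.beq q) ||
    VT.any fun P => Nat.beq (papp P 5) q) = true := by decide +kernel
theorem w_cov : ((List.range 24).all fun q => (8536111 : ℕ).testBit q ||
    WT.any fun P => Nat.beq (papp P 4) q) = true := by decide +kernel

theorem fixL_iff {P : ℕ} (hP : ok P = true) {l : List ℕ} (hl : ∀ i ∈ l, i < 24) :
    fixL P l = true ↔ ∀ i ∈ l, el P • pt i = pt i := by
  unfold fixL
  rw [List.all_eq_true]
  constructor
  · intro h i hi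
    rw [el_smul_pt hP, idx_pt (hl i hi), Nat.eq_of_beq_eq_true (h i hi)]
  · intro h i hi
    have h1 := h i hi
    have h2 := congrArg idx h1
    rw [idx_el_smul hP, idx_pt (hl i hi)] at h2
    rw [h2]
    exact Nat.beq_refl i

/-- one step of the sift -/
theorem step {T fx : List ℕ} {i : ℕ} (hi : i < 24) (hfx : ∀ j ∈ fx, j < 24)
    (hT : (T.all fun P => ok P && fixL P fx) = true) (k : M24) (hk : ∀ j ∈ fx, k • pt j = pt j)
    (hq : (T.any fun P => Nat.beq (papp P i) (idx (k • pt i))) = true) :
    ∃ P ∈ T, ok P = true ∧ ∀ j ∈ i :: fx, ((el P)⁻¹ * k) • pt j = pt j := by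
  obtain ⟨P, hPT, hP⟩ := List.any_eq_true.1 hq
  have h1 := List.all_eq_true.1 hT P hPT
  rw [Bool.and_eq_true] at h1
  refine ⟨P, hPT, h1.1, ?_⟩
  have h2 := (fixL_iff h1.1 hfx).1 h1.2
  intro j hj
  rw [mul_smul, inv_smul_eq_iff]
  rcases List.mem_cons.1 hj with rfl | hj
  · rw [el_smul_pt h1.1, idx_pt hi, Nat.eq_of_beq_eq_true hP, pt_idx]
  · rw [hk j hj, h2 j hj]

theorem idx_ne {k : M24} {i j : ℕ} (hij : i < 24) (hj : j < 24) (hne : i ≠ j)
    (hk : k • pt j = pt j) : idx (k • pt i) ≠ j := by
  intro h
  have h1 : k • pt i = pt j := by rw [← h, pt_idx]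
  rw [← hk] at h1
  have h2 := congrArg idx (smul_left_cancel k h1)
  rw [idx_pt hij, idx_pt hj] at h2
  exact hne h2

theorem std_eq : Cfsg.Agent.SporadicStructure.M24Frame.stdOctad = fin 8536111 := by decide +kernel

theorem smul_std {k : M24} (h : ∀ j ∈ [3, 23, 0, 1, 2], k • pt j = pt j) :
    (k : Equiv.Perm GolayPt) • Cfsg.Agent.SporadicStructure.M24Frame.stdOctad =
      Cfsg.Agent.SporadicStructure.M24Frame.stdOctad := by
  apply Cfsg.Agent.SporadicStructure.M24Frame.smul_octad_eq_of_five k.2
    Cfsg.Agent.SporadicStructure.M24Frame.stdOctad_mem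
    Cfsg.Agent.SporadicStructure.M24Frame.stdOctad_mem
    (s := {pt 3, pt 23, pt 0, pt 1, pt 2})
  · decide +kernel
  · decide +kernel
  · intro z hz
    have hz' : z = pt 3 ∨ z = pt 23 ∨ z = pt 0 ∨ z = pt 1 ∨ z = pt 2 := by
      simpa only [Finset.mem_insert, Finset.mem_singleton] using hz
    have hk : ∀ j ∈ [3, 23, 0, 1, 2], (k : Equiv.Perm GolayPt) (pt j) = pt j := fun j hj => h j hj
    rcases hz' with rfl | rfl | rfl | rfl | rfl
    · rw [hk 3 (by decide)]; decide +kernel
    · rw [hk 23 (by decide)]; decide +kernel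
    · rw [hk 0 (by decide)]; decide +kernel
    · rw [hk 1 (by decide)]; decide +kernel
    · rw [hk 2 (by decide)]; decide +kernel

theorem mem_std {k : M24} (h : ∀ j ∈ [3, 23, 0, 1, 2], k • pt j = pt j) (p : GolayPt) :
    (8536111 : ℕ).testBit (idx (k • p)) = (8536111 : ℕ).testBit (idx p) := by
  have h1 := smul_std h
  have h2 := Cfsg.Agent.SporadicStructure.M24Frame.mem_of_smul_eq' h1 p
  rw [std_eq, mem_fin, mem_fin] at h2
  have h3 : (k : Equiv.Perm GolayPt) p = k • p := rfl
  rw [h3] at h2
  exact Bool.eq_iff_iff.mpr h2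

/-- **the sift**: elements fixing `∞, 0, 1, 2` -/
theorem factor (k : M24) (hk : ∀ j ∈ [23, 0, 1, 2], k • pt j = pt j) :
    ∃ u ∈ UT, ∃ v ∈ VT, ∃ w ∈ WT, ok u = true ∧ ok v = true ∧ ok w = true ∧
      k = el u * el v * el w := by
  obtain ⟨u, hu, huok, hk1⟩ := step (i := 3) (by norm_num) (by decide) u_ok k hk (by
    have h := List.all_eq_true.1 u_cov (idx (k • pt 3)) (List.mem_range.2 (idx_lt _))
    rw [Bool.or_eq_true] at h
    refine h.resolve_left fun h1 => ?_
    obtain ⟨j, hj, h2⟩ := List.any_eq_true.1 h1
    have hj24 : ∀ j ∈ [23, 0, 1, 2], j < 24 ∧ 3 ≠ j := by decide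
    exact idx_ne (by norm_num) (hj24 j hj).1 (hj24 j hj).2 (hk j hj) (Nat.eq_of_beq_eq_true h2))
  obtain ⟨v, hv, hvok, hk2⟩ := step (i := 5) (by norm_num) (by decide) v_ok _ hk1 (by
    have h := List.all_eq_true.1 v_cov (idx (((el u)⁻¹ * k) • pt 5)) (List.mem_range.2 (idx_lt _))
    rw [Bool.or_eq_true, Bool.or_eq_true] at h
    refine h.resolve_left fun h1 => ?_
    rcases h1 with h1 | h1
    · rw [mem_std hk1, idx_pt (by norm_num)] at h1
      exact absurd h1 (by decide)
    · obtain ⟨j, hj, h2⟩ := List.any_eq_true.1 h1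
      have hj24 : ∀ j ∈ [3, 23, 0, 1, 2], j < 24 ∧ 5 ≠ j := by decide
      exact idx_ne (by norm_num) (hj24 j hj).1 (hj24 j hj).2 (hk1 j hj) (Nat.eq_of_beq_eq_true h2))
  have hk2' : ∀ j ∈ [3, 23, 0, 1, 2], ((el v)⁻¹ * ((el u)⁻¹ * k)) • pt j = pt j := fun j hj =>
    hk2 j (List.mem_cons_of_mem _ hj)
  obtain ⟨w, hw, hwok, hk3⟩ := step (i := 4) (by norm_num) (by decide) w_ok _ hk2 (by
    have h := List.all_eq_true.1 w_cov (idx (((el v)⁻¹ * ((el u)⁻¹ * k)) • pt 4))
      (List.mem_range.2 (idx_lt _))
    rw [Bool.or_eq_true] at h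
    refine h.resolve_left fun h1 => ?_
    rw [mem_std hk2', idx_pt (by norm_num)] at h1
    exact absurd h1 (by decide))
  refine ⟨u, hu, v, hv, w, hw, huok, hvok, hwok, ?_⟩
  have h1 : (el w)⁻¹ * ((el v)⁻¹ * ((el u)⁻¹ * k)) = 1 := by
    apply Subtype.ext
    have e : ∀ i, i < 24 → pt i = pt i := fun _ _ => rfl
    have p0 : pt 23 = (none : GolayPt) := by decide +kernel
    have p1 : pt 0 = (some 0 : GolayPt) := by decide +kernel
    have p2 : pt 1 = (some 1 : GolayPt) := by decide +kernel
    have p3 : pt 2 = (some 2 : GolayPt) := by decide +kernel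
    have p4 : pt 3 = (some 3 : GolayPt) := by decide +kernel
    have p5 : pt 5 = (some 5 : GolayPt) := by decide +kernel
    have p6 : pt 4 = (some 4 : GolayPt) := by decide +kernel
    have q : ∀ j ∈ [4, 5, 3, 23, 0, 1, 2], (((el w)⁻¹ * ((el v)⁻¹ * ((el u)⁻¹ * k)) : M24) :
        Equiv.Perm GolayPt) (pt j) = pt j := fun j hj => hk3 j hj
    apply Cfsg.Agent.SporadicStructure.M24Frame.rigid_base
      ((el w)⁻¹ * ((el v)⁻¹ * ((el u)⁻¹ * k)) : M24).2
    · have := q 23 (by decide); rwa [p0] at this
    · have := q 0 (by decide); rwa [p1] at this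
    · have := q 1 (by decide); rwa [p2] at this
    · have := q 2 (by decide); rwa [p3] at this
    · have := q 3 (by decide); rwa [p4] at this
    · have := q 5 (by decide); rwa [p5] at this
    · have := q 4 (by decide); rwa [p6] at this
  have h2 : k = el u * (el v * (el w * ((el w)⁻¹ * ((el v)⁻¹ * ((el u)⁻¹ * k))))) := by group
  rw [h2, h1]; group

end Cfsg.Agent.H517.Ore.MBase
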