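import Mathlib
import Cfsg.Agent.H517.Ore.MBase

/-!
# Checking cosets of the stabiliser of four points of `M24`

`OreP fx n l`: `l` is a commutator `[a, b]` of elements fixing the points of `fx`, with `a` of order `n`.
-/

set_option autoImplicit false

namespace Cfsg.Agent.H517.Ore.MCheck

open Cfsg Cfsg.Agent.SporadicA.GolayBase Cfsg.Agent.SporadicA.GolayPerm
open Cfsg.Agent.SporadicStructure.M24El Cfsg.Agent.H517.Ore.MBase
open scoped Pointwise

/-- the conjugating element `n / 32` maps `g` to the representative number `n % 32` -/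
def one (fx : List ℕ) (RT : List (ℕ × ℕ × ℕ)) (g n : ℕ) : Bool :=
  ok (n / 32) && fixL (n / 32) fx && Nat.blt (n % 32) RT.length &&
    Nat.beq (pcomp (n / 32) g) (pcomp (RT.getD (n % 32) (idP, idP, idP)).1 (n / 32))

def chkW (fx : List ℕ) (RT : List (ℕ × ℕ × ℕ)) (g : ℕ) : List ℕ → List ℕ → Bool
  | [], _ => true
  | _ :: _, [] => false
  | w :: ws, n :: ns => one fx RT (pcomp g w) n && chkW fx RT g ws ns

def chkV (fx : List ℕ) (RT : List (ℕ × ℕ × ℕ)) (g : ℕ) : List ℕ → List (List ℕ) → Bool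
  | [], _ => true
  | _ :: _, [] => false
  | v :: vs, n :: ns => chkW fx RT (pcomp g v) WT n && chkV fx RT g vs ns

def chkU (fx : List ℕ) (RT : List (ℕ × ℕ × ℕ)) (g : ℕ) : List ℕ → List (List (List ℕ)) → Bool
  | [], _ => true
  | _ :: _, [] => false
  | u :: us, n :: ns => chkV fx RT (pcomp g u) VT n && chkU fx RT g us ns

/-- packed powers -/
def pw (c : ℕ) : ℕ → ℕ
  | 0 => idP
  | n + 1 => pcomp c (pw c n)

/-- check of a witness -/
def wit (fx : List ℕ) (n : ℕ) (t : ℕ × ℕ × ℕ) : Bool :=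
  ok t.1 && ok t.2.1 && ok t.2.2 && fixL t.2.1 fx && fixL t.2.2 fx &&
    Nat.beq (pcomp t.2.1 t.2.2) (pcomp t.1 (pcomp t.2.2 t.2.1)) &&
    !(fixL t.2.1 (List.range 24)) && Nat.beq (pw t.2.1 n) idP

/-- the complete check of a coset -/
def chkC (fx : List ℕ) (n c : ℕ) (RT : List (ℕ × ℕ × ℕ)) (HT : List (List (List ℕ))) : Bool :=
  ok c && RT.all (wit fx n) && chkU fx RT c UT HT

/-- the property -/
def OreP (fx : List ℕ) (n : ℕ) (l : M24) : Prop :=
  ∃ a b : M24, (∀ i ∈ fx, a • pt i = pt i) ∧ (∀ i ∈ fx, b • pt i = pt i) ∧ l = a * b * a⁻¹ * b⁻¹ ∧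
    orderOf a = n

theorem OreP.conj {fx : List ℕ} {n : ℕ} {l : M24} (h : OreP fx n l) {x : M24}
    (hx : ∀ i ∈ fx, x • pt i = pt i) : OreP fx n (x * l * x⁻¹) := by
  obtain ⟨a, b, ha, hb, hl, ho⟩ := h
  have hx' : ∀ i ∈ fx, x⁻¹ • pt i = pt i := fun i hi => by rw [inv_smul_eq_iff, hx i hi]
  refine ⟨x * a * x⁻¹, x * b * x⁻¹, fun i hi => ?_, fun i hi => ?_, ?_, ?_⟩
  · rw [mul_smul, mul_smul, hx' i hi, ha i hi, hx i hi]
  · rw [mul_smul, mul_smul, hx' i hi, hb i hi, hx i hi]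
  · rw [hl]; group
  · rw [← ho]
    exact MulEquiv.orderOf_eq (MulAut.conj x) a

theorem OreP.of_conj {fx : List ℕ} {n : ℕ} {l x : M24} (hx : ∀ i ∈ fx, x • pt i = pt i)
    (h : OreP fx n (x * l * x⁻¹)) : OreP fx n l := by
  have hx' : ∀ i ∈ fx, x⁻¹ • pt i = pt i := fun i hi => by rw [inv_smul_eq_iff, hx i hi]
  have h1 := h.conj hx'
  have h2 : x⁻¹ * (x * l * x⁻¹) * x⁻¹⁻¹ = l := by group
  rwa [h2] at h1

theorem chkW_spec {fx : List ℕ} {RT : List (ℕ × ℕ × ℕ)} {g : ℕ} : ∀ {ws ns : List ℕ},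
    chkW fx RT g ws ns = true → ∀ w ∈ ws, ∃ n, one fx RT (pcomp g w) n = true
  | [], _, _, w, hw => absurd hw List.not_mem_nil
  | _ :: _, [], h, _, _ => absurd h (by simp [chkW])
  | w :: ws, n :: ns, h, x, hx => by
    rw [chkW, Bool.and_eq_true] at h
    rcases List.mem_cons.1 hx with rfl | hx
    · exact ⟨n, h.1⟩
    · exact chkW_spec h.2 x hx

theorem chkV_spec {fx : List ℕ} {RT : List (ℕ × ℕ × ℕ)} {g : ℕ} : ∀ {vs : List ℕ}
    {ns : List (List ℕ)}, chkV fx RT g vs ns = true → ∀ v ∈ vs, ∀ w ∈ WT, ∃ n,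
      one fx RT (pcomp (pcomp g v) w) n = true
  | [], _, _, v, hv => absurd hv List.not_mem_nil
  | _ :: _, [], h, _, _ => absurd h (by simp [chkV])
  | v :: vs, n :: ns, h, x, hx => by
    rw [chkV, Bool.and_eq_true] at h
    rcases List.mem_cons.1 hx with rfl | hx
    · exact chkW_spec h.1
    · exact chkV_spec h.2 x hx

theorem chkU_spec {fx : List ℕ} {RT : List (ℕ × ℕ × ℕ)} {g : ℕ} : ∀ {us : List ℕ}
    {ns : List (List (List ℕ))}, chkU fx RT g us ns = true → ∀ u ∈ us, ∀ v ∈ VT, ∀ w ∈ WT, ∃ n,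
      one fx RT (pcomp (pcomp (pcomp g u) v) w) n = true
  | [], _, _, u, hu => absurd hu List.not_mem_nil
  | _ :: _, [], h, _, _ => absurd h (by simp [chkU])
  | u :: us, n :: ns, h, x, hx => by
    rw [chkU, Bool.and_eq_true] at h
    rcases List.mem_cons.1 hx with rfl | hx
    · exact chkV_spec h.1
    · exact chkU_spec h.2 x hx

theorem ok_pw {c : ℕ} (hc : ok c = true) : ∀ n, ok (pw c n) = true
  | 0 => ok_idP
  | n + 1 => ok_pcomp hc (ok_pw hc n)

theorem el_pw {c : ℕ} (hc : ok c = true) : ∀ n, el (pw c n) = el c ^ n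
  | 0 => by rw [pow_zero]; exact el_idP
  | n + 1 => by
    rw [show pw c (n + 1) = pcomp c (pw c n) from rfl, el_pcomp hc (ok_pw hc n), el_pw hc n, pow_succ']

theorem wit_spec {fx : List ℕ} {n : ℕ} (hn : n.Prime) (hfx : ∀ i ∈ fx, i < 24)
    {t : ℕ × ℕ × ℕ} (h : wit fx n t = true) : ok t.1 = true ∧ OreP fx n (el t.1) := by
  obtain ⟨r, a, b⟩ := t
  simp only [wit, Bool.and_eq_true, Bool.not_eq_true'] at h
  obtain ⟨⟨⟨⟨⟨⟨⟨hr, ha⟩, hb⟩, hfa⟩, hfb⟩, hab⟩, hne⟩, hpw⟩ := h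
  refine ⟨hr, el a, el b, (fixL_iff ha hfx).1 hfa, (fixL_iff hb hfx).1 hfb, ?_, ?_⟩
  · have h1 := congrArg el (Nat.eq_of_beq_eq_true hab)
    rw [el_pcomp ha hb, el_pcomp hr (ok_pcomp hb ha), el_pcomp hb ha] at h1
    rw [h1]; group
  · have := Fact.mk hn
    apply orderOf_eq_prime
    · rw [← el_pw ha, Nat.eq_of_beq_eq_true hpw, el_idP]
    · intro h1
      have h2 : fixL a (List.range 24) = true := by
        rw [fixL_iff ha (fun i hi => List.mem_range.1 hi)]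
        intro i _
        rw [h1, one_smul]
      rw [h2] at hne
      exact absurd hne (by decide)

theorem one_spec {fx : List ℕ} {n : ℕ} (hn : n.Prime) (hfx : ∀ i ∈ fx, i < 24)
    {RT : List (ℕ × ℕ × ℕ)} (hR : RT.all (wit fx n) = true) {g m : ℕ} (hg : ok g = true)
    (h : one fx RT g m = true) : OreP fx n (el g) := by
  simp only [one, Bool.and_eq_true] at h
  obtain ⟨⟨⟨h1, h2⟩, h3⟩, h4⟩ := h
  have h5 := Nat.eq_of_beq_eq_true h4
  have h3' : m % 32 < RT.length := Nat.blt_eq.mp h3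
  rw [List.getD_eq_getElem _ _ h3'] at h5
  have h6 := List.all_eq_true.1 hR _ (List.getElem_mem h3')
  obtain ⟨hr, hP⟩ := wit_spec hn hfx h6
  refine OreP.of_conj (x := el (m / 32)) ((fixL_iff h1 hfx).1 h2) ?_
  have h7 := congrArg el h5
  rw [el_pcomp h1 hg, el_pcomp hr h1] at h7
  rw [h7, mul_inv_cancel_right]
  exact hP

/-- **cosets** -/
theorem coset {fx : List ℕ} {n : ℕ} (hn : n.Prime) (hfx : ∀ i ∈ fx, i < 24)
    {RT : List (ℕ × ℕ × ℕ)} {HT : List (List (List ℕ))} {c : ℕ}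
    (h : chkC fx n c RT HT = true) (g : M24)
    (hg : ∀ j ∈ [23, 0, 1, 2], g • pt j = pt (papp c j)) : OreP fx n g := by
  simp only [chkC, Bool.and_eq_true] at h
  obtain ⟨⟨hc, hR⟩, hU⟩ := h
  have hk : ∀ j ∈ [23, 0, 1, 2], ((el c)⁻¹ * g) • pt j = pt j := by
    intro j hj
    have hj24 : ∀ j ∈ [23, 0, 1, 2], j < 24 := by decide
    rw [mul_smul, inv_smul_eq_iff, hg j hj, el_smul_pt hc, idx_pt (hj24 j hj)]
  obtain ⟨u, hu, v, hv, w, hw, huo, hvo, hwo, he⟩ := factor _ hk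
  obtain ⟨m, hm⟩ := chkU_spec hU u hu v hv w hw
  have h1 := one_spec hn hfx hR (ok_pcomp (ok_pcomp (ok_pcomp hc huo) hvo) hwo) hm
  rw [el_pcomp (ok_pcomp (ok_pcomp hc huo) hvo) hwo, el_pcomp (ok_pcomp hc huo) hvo,
    el_pcomp hc huo] at h1
  have h2 : g = el c * el u * el v * el w := by
    have : g = el c * ((el c)⁻¹ * g) := by group
    rw [this, he]; group
  rw [h2]
  exact h1

end Cfsg.Agent.H517.Ore.MCheck
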