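import Mathlib
import Cfsg.Agent.H517.Ore.MCheck

/-!
# Adapting an element of `M24` to the base
-/

set_option autoImplicit false

namespace Cfsg.Agent.H517.Ore.MPat

open Cfsg Cfsg.Agent.SporadicA.GolayBase Cfsg.Agent.SporadicA.GolayPerm
open Cfsg.Agent.SporadicStructure.M24El Cfsg.Agent.H517.Ore.MBase Cfsg.Agent.H517.Ore.MCheck
open scoped Pointwise

/-- five transitivity -/
theorem move (a b : Fin 5 → GolayPt) (ha : Function.Injective a) (hb : Function.Injective b) :
    ∃ x : M24, ∀ i, x • a i = b i := by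
  have h5 : MulAction.IsMultiplyPretransitive M24 GolayPt 5 := Cfsg.Agent.S0366.result
  rw [MulAction.isMultiplyPretransitive_iff] at h5
  obtain ⟨x, hx⟩ := h5 (x := ⟨a, ha⟩) (y := ⟨b, hb⟩)
  refine ⟨x, fun i => ?_⟩
  have := DFunLike.congr_fun hx i
  exact this

theorem inj5 {a b c d e : GolayPt} (h : [a, b, c, d, e].Nodup) : Function.Injective ![a, b, c, d, e] := by
  rw [← List.nodup_ofFn]
  exact h

/-- move five points to the base -/
theorem toBase {a b c d e : GolayPt} (h : [a, b, c, d, e].Nodup) :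
    ∃ x : M24, x • a = pt 23 ∧ x • b = pt 0 ∧ x • c = pt 1 ∧ x • d = pt 2 ∧ x • e = pt 3 := by
  obtain ⟨x, hx⟩ := move ![a, b, c, d, e] ![pt 23, pt 0, pt 1, pt 2, pt 3] (inj5 h)
    (inj5 (by decide +kernel))
  exact ⟨x, hx 0, hx 1, hx 2, hx 3, hx 4⟩

/-- move five points away from the base -/
theorem toFar {a b c d e : GolayPt} (h : [a, b, c, d, e].Nodup) :
    ∃ x : M24, x • a = pt 6 ∧ x • b = pt 7 ∧ x • c = pt 8 ∧ x • d = pt 9 ∧ x • e = pt 10 := by
  obtain ⟨x, hx⟩ := move ![a, b, c, d, e] ![pt 6, pt 7, pt 8, pt 9, pt 10] (inj5 h)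
    (inj5 (by decide +kernel))
  exact ⟨x, hx 0, hx 1, hx 2, hx 3, hx 4⟩

/-- a point outside a short list -/
theorem exists_new (l : List GolayPt) (hl : l.length < 24) : ∃ p, p ∉ l := by
  by_contra h
  push Not at h
  have h1 : (Finset.univ : Finset GolayPt) ⊆ l.toFinset := fun p _ => List.mem_toFinset.2 (h p)
  have h2 := Finset.card_le_card h1
  have h3 : (Finset.univ : Finset GolayPt).card = 24 := by decide
  have h4 := List.toFinset_card_le l
  omega

/-- an element fixing all points but three is trivial -/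
theorem eq_one_of_three {l : M24} {a b c : GolayPt} (hn : [a, b, c].Nodup)
    (h : ∀ p, p ≠ a → p ≠ b → p ≠ c → l • p = p) : l = 1 := by
  obtain ⟨d, hd⟩ := exists_new [a, b, c] (by norm_num)
  obtain ⟨e, he⟩ := exists_new [a, b, c, d] (by norm_num)
  have hn5 : [a, b, c, d, e].Nodup := by
    simp only [List.nodup_cons, List.mem_cons, List.not_mem_nil, or_false, not_or,
      not_false_eq_true, List.nodup_nil, and_true] at hn hd he ⊢
    tauto
  obtain ⟨x, h1, h2, h3, -, -⟩ := toFar hn5
  have key : ∀ j, j < 24 → j ≠ 6 → j ≠ 7 → j ≠ 8 → (x * l * x⁻¹) • pt j = pt j := by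
    intro j hj h6 h7 h8
    have hne : ∀ i, i < 24 → j ≠ i → pt j ≠ pt i := by
      intro i hi hji e
      have := congrArg idx e
      rw [idx_pt hj, idx_pt hi] at this
      exact hji this
    have h9 : l • (x⁻¹ • pt j) = x⁻¹ • pt j := by
      apply h
      · intro e; apply hne 6 (by norm_num) h6; rw [← h1, ← e, smul_inv_smul]
      · intro e; apply hne 7 (by norm_num) h7; rw [← h2, ← e, smul_inv_smul]
      · intro e; apply hne 8 (by norm_num) h8; rw [← h3, ← e, smul_inv_smul]
    rw [mul_smul, mul_smul, h9, smul_inv_smul]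
  have h4 : x * l * x⁻¹ = 1 := by
    apply Subtype.ext
    have q : ∀ j ∈ [4, 5, 3, 23, 0, 1, 2], ((x * l * x⁻¹ : M24) : Equiv.Perm GolayPt) (pt j) = pt j := by
      intro j hj
      have hj' : ∀ j ∈ [4, 5, 3, 23, 0, 1, 2], j < 24 ∧ j ≠ 6 ∧ j ≠ 7 ∧ j ≠ 8 := by decide
      obtain ⟨a1, a2, a3, a4⟩ := hj' j hj
      exact key j a1 a2 a3 a4
    have p0 : pt 23 = (none : GolayPt) := by decide +kernel
    have p1 : pt 0 = (some 0 : GolayPt) := by decide +kernel
    have p2 : pt 1 = (some 1 : GolayPt) := by decide +kernel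
    have p3 : pt 2 = (some 2 : GolayPt) := by decide +kernel
    have p4 : pt 3 = (some 3 : GolayPt) := by decide +kernel
    have p5 : pt 5 = (some 5 : GolayPt) := by decide +kernel
    have p6 : pt 4 = (some 4 : GolayPt) := by decide +kernel
    apply Cfsg.Agent.SporadicStructure.M24Frame.rigid_base (x * l * x⁻¹ : M24).2
    · have := q 23 (by decide); rwa [p0] at this
    · have := q 0 (by decide); rwa [p1] at this
    · have := q 1 (by decide); rwa [p2] at this
    · have := q 2 (by decide); rwa [p3] at this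
    · have := q 3 (by decide); rwa [p4] at this
    · have := q 5 (by decide); rwa [p5] at this
    · have := q 4 (by decide); rwa [p6] at this
  have h5 : l = x⁻¹ * (x * l * x⁻¹) * x := by group
  rw [h5, h4]; group

end Cfsg.Agent.H517.Ore.MPat
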