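import Mathlib
import Cfsg.Prelude.Def_Spor_Mathieu
import Cfsg.Agent.H517.Ore.MPat
import Cfsg.Agent.H517.Ore.M22a
import Cfsg.Agent.H517.Ore.M22b
import Cfsg.Agent.H517.Ore.M23a
import Cfsg.Agent.H517.Ore.M23b
import Cfsg.Agent.H517.Ore.M23c
import Cfsg.Agent.H517.Ore.M24a
import Cfsg.Agent.H517.Ore.M24b
import Cfsg.Agent.H517.Ore.M24c
import Cfsg.Agent.H517.Ore.M24d

/-!
# Commutators in `M22`, `M23`, `M24`

Every element `l` of `M24` (`M23`, `M22`) is a commutator `[a, b]` with `a` of order 23 (23, 11).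
-/

set_option autoImplicit false

namespace Cfsg.Agent.H517.Ore.MAll

open Cfsg Cfsg.Agent.SporadicA.GolayBase Cfsg.Agent.SporadicA.GolayPerm
open Cfsg.Agent.SporadicStructure.M24El Cfsg.Agent.H517.Ore.MBase Cfsg.Agent.H517.Ore.MCheck
open Cfsg.Agent.H517.Ore.MPat
open scoped Pointwise

theorem use {fx : List ℕ} {n : ℕ} (hn : n.Prime) (hfx : ∀ i ∈ fx, i < 24)
    {RT : List (ℕ × ℕ × ℕ)} {HT : List (List (List ℕ))} {c : ℕ}
    (h : chkC fx n c RT HT = true) {l x : M24} {p0 p1 p2 p3 : GolayPt} (h0 : x • p0 = pt 23)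
    (h1 : x • p1 = pt 0) (h2 : x • p2 = pt 1) (h3 : x • p3 = pt 2) {i0 i1 i2 i3 : ℕ}
    (hi : papp c 23 = i0 ∧ papp c 0 = i1 ∧ papp c 1 = i2 ∧ papp c 2 = i3)
    (q0 : x • l • p0 = pt i0) (q1 : x • l • p1 = pt i1) (q2 : x • l • p2 = pt i2)
    (q3 : x • l • p3 = pt i3) (hxf : ∀ i ∈ fx, x • pt i = pt i) : OreP fx n l := by
  refine OreP.of_conj hxf (coset hn hfx h _ ?_)
  obtain ⟨e0, e1, e2, e3⟩ := hi
  intro j hj
  simp only [List.mem_cons, List.not_mem_nil, or_false] at hj
  rcases hj with rfl | rfl | rfl | rfl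
  · rw [e0, ← h0, mul_smul, mul_smul, inv_smul_smul, q0]
  · rw [e1, ← h1, mul_smul, mul_smul, inv_smul_smul, q1]
  · rw [e2, ← h2, mul_smul, mul_smul, inv_smul_smul, q2]
  · rw [e3, ← h3, mul_smul, mul_smul, inv_smul_smul, q3]

theorem exists_moved {l : M24} (hl : l ≠ 1) : ∃ p : GolayPt, l • p ≠ p := by
  by_contra h
  push Not at h
  exact hl (Subtype.ext (Equiv.ext fun p => h p))

theorem p23 : Nat.Prime 23 := by norm_num
theorem p11 : Nat.Prime 11 := by norm_num

/-- **`M24`** -/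
theorem ore24 (l : M24) (hl : l ≠ 1) : OreP [] 23 l := by
  have inj : ∀ {a b : GolayPt}, l • a = l • b → a = b := fun h => smul_left_cancel l h
  have hfx : ∀ i ∈ ([] : List ℕ), i < 24 := by decide
  by_cases hA : ∃ p : GolayPt, l • l • p ≠ p ∧ l • l • l • p ≠ p
  · obtain ⟨p, h2, h3⟩ := hA
    have n1 : l • p ≠ p := fun e => h2 (by rw [e, e])
    by_cases h4 : l • l • l • l • p = p
    · obtain ⟨e, he⟩ := exists_new [p, l • p, l • l • p, l • l • l • p] (by norm_num)
      have hn : [p, l • p, l • l • p, l • l • l • p, e].Nodup := by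
        simp only [List.nodup_cons, List.mem_cons, List.not_mem_nil, or_false, not_or,
          not_false_eq_true, List.nodup_nil, and_true] at he ⊢
        exact ⟨⟨n1.symm, h2.symm, h3.symm, fun x => he.1 x.symm⟩,
          ⟨fun x => n1.symm (inj x), fun x => h2.symm (inj x), fun x => he.2.1 x.symm⟩,
          ⟨fun x => n1.symm (inj (inj x)), fun x => he.2.2.1 x.symm⟩, fun x => he.2.2.2 x.symm⟩
      obtain ⟨x, x0, x1, x2, x3, x4⟩ := toBase hn
      exact use p23 hfx M24b.chk x0 x1 x2 x3 (i0 := 0) (i1 := 1) (i2 := 2) (i3 := 23)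
        (by decide +kernel) x1 x2 x3 (by rw [h4, x0]) (by simp)
    · have hn : [p, l • p, l • l • p, l • l • l • p, l • l • l • l • p].Nodup := by
        simp only [List.nodup_cons, List.mem_cons, List.not_mem_nil, or_false, not_or,
          not_false_eq_true, List.nodup_nil, and_true]
        exact ⟨⟨n1.symm, h2.symm, h3.symm, fun x => h4 x.symm⟩,
          ⟨fun x => n1.symm (inj x), fun x => h2.symm (inj x), fun x => h3.symm (inj x)⟩,
          ⟨fun x => n1.symm (inj (inj x)), fun x => h2.symm (inj (inj x))⟩,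
          fun x => n1.symm (inj (inj (inj x)))⟩
      obtain ⟨x, x0, x1, x2, x3, x4⟩ := toBase hn
      exact use p23 hfx M24a.chk x0 x1 x2 x3 (i0 := 0) (i1 := 1) (i2 := 2) (i3 := 3)
        (by decide +kernel) x1 x2 x3 x4 (by simp)
  · push Not at hA
    by_cases hC : ∃ p : GolayPt, l • l • p ≠ p
    · obtain ⟨p, h2⟩ := hC
      have h3 := hA p h2
      have n1 : l • p ≠ p := fun e => h2 (by rw [e, e])
      by_cases hq : ∃ q, q ≠ p ∧ q ≠ l • p ∧ q ≠ l • l • p ∧ l • q ≠ q
      · obtain ⟨q, q1, q2, q3, q4⟩ := hq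
        have hn : [p, l • p, l • l • p, q, l • q].Nodup := by
          simp only [List.nodup_cons, List.mem_cons, List.not_mem_nil, or_false, not_or,
            not_false_eq_true, List.nodup_nil, and_true]
          refine ⟨⟨n1.symm, h2.symm, q1.symm, fun x => ?_⟩,
            ⟨fun x => n1.symm (inj x), q2.symm, fun x => q1 (inj x).symm⟩,
            ⟨q3.symm, fun x => q2 (inj x).symm⟩, q4.symm⟩
          rw [← h3] at x
          exact q3 (inj x).symm
        obtain ⟨x, x0, x1, x2, x3, x4⟩ := toBase hn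
        exact use p23 hfx M24c.chk x0 x1 x2 x3 (i0 := 0) (i1 := 1) (i2 := 23) (i3 := 3)
          (by decide +kernel) x1 x2 (by rw [h3, x0]) x4 (by simp)
      · push Not at hq
        exfalso
        refine hl (eq_one_of_three (a := p) (b := l • p) (c := l • l • p) ?_ fun q a b c => hq q a b c)
        simp only [List.nodup_cons, List.mem_cons, List.not_mem_nil, or_false, not_or,
          not_false_eq_true, List.nodup_nil, and_true]
        exact ⟨⟨n1.symm, h2.symm⟩, fun x => n1.symm (inj x)⟩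
    · push Not at hC
      obtain ⟨p, n1⟩ := exists_moved hl
      have h2 := hC p
      by_cases hq : ∃ q, q ≠ p ∧ q ≠ l • p ∧ l • q ≠ q
      · obtain ⟨q, q1, q2, q4⟩ := hq
        have h3 := hC q
        obtain ⟨e, he⟩ := exists_new [p, l • p, q, l • q] (by norm_num)
        have hn : [p, l • p, q, l • q, e].Nodup := by
          simp only [List.nodup_cons, List.mem_cons, List.not_mem_nil, or_false, not_or,
            not_false_eq_true, List.nodup_nil, and_true] at he ⊢
          refine ⟨⟨n1.symm, q1.symm, fun x => ?_, fun x => he.1 x.symm⟩,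
            ⟨q2.symm, fun x => q1 (inj x).symm, fun x => he.2.1 x.symm⟩,
            ⟨q4.symm, fun x => he.2.2.1 x.symm⟩, fun x => he.2.2.2 x.symm⟩
          rw [← h2] at x
          exact q2 (inj x).symm
        obtain ⟨x, x0, x1, x2, x3, x4⟩ := toBase hn
        exact use p23 hfx M24d.chk x0 x1 x2 x3 (i0 := 0) (i1 := 23) (i2 := 2) (i3 := 1)
          (by decide +kernel) x1 (by rw [h2, x0]) x3 (by rw [h3, x2]) (by simp)
      · push Not at hq
        exfalso
        obtain ⟨e, he⟩ := exists_new [p, l • p] (by norm_num)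
        refine hl (eq_one_of_three (a := p) (b := l • p) (c := e) ?_ fun q a b _ => hq q a b)
        simp only [List.nodup_cons, List.mem_cons, List.not_mem_nil, or_false, not_or,
          not_false_eq_true, List.nodup_nil, and_true] at he ⊢
        exact ⟨⟨n1.symm, fun x => he.1 x.symm⟩, fun x => he.2 x.symm⟩

/-- **`M23`** -/
theorem ore23 (l : M24) (hl : l ≠ 1) (h0 : l • pt 23 = pt 23) : OreP [23] 23 l := by
  have inj : ∀ {a b : GolayPt}, l • a = l • b → a = b := fun h => smul_left_cancel l h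
  have hfx : ∀ i ∈ ([23] : List ℕ), i < 24 := by decide
  have nz : ∀ {p : GolayPt}, pt 23 ≠ p → pt 23 ≠ l • p := fun h e => h (inj (h0.trans e))
  by_cases hA : ∃ p : GolayPt, l • l • p ≠ p ∧ l • l • l • p ≠ p
  · obtain ⟨p, h2, h3⟩ := hA
    have n1 : l • p ≠ p := fun e => h2 (by rw [e, e])
    have z0 : pt 23 ≠ p := fun e => n1 (by rw [← e, h0])
    have hn : [pt 23, p, l • p, l • l • p, l • l • l • p].Nodup := by
      simp only [List.nodup_cons, List.mem_cons, List.not_mem_nil, or_false, not_or,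
        not_false_eq_true, List.nodup_nil, and_true]
      exact ⟨⟨z0, nz z0, nz (nz z0), nz (nz (nz z0))⟩, ⟨n1.symm, h2.symm, h3.symm⟩,
        ⟨fun x => n1.symm (inj x), fun x => h2.symm (inj x)⟩,
        fun x => n1.symm (inj (inj x))⟩
    obtain ⟨x, x0, x1, x2, x3, x4⟩ := toBase hn
    exact use p23 hfx M23a.chk x0 x1 x2 x3 (i0 := 23) (i1 := 1) (i2 := 2) (i3 := 3)
      (by decide +kernel) (by rw [h0, x0]) x2 x3 x4 (by simpa using x0)
  · push Not at hA
    by_cases hC : ∃ p : GolayPt, l • l • p ≠ p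
    · obtain ⟨p, h2⟩ := hC
      have h3 := hA p h2
      have n1 : l • p ≠ p := fun e => h2 (by rw [e, e])
      have z0 : pt 23 ≠ p := fun e => n1 (by rw [← e, h0])
      obtain ⟨e, he⟩ := exists_new [pt 23, p, l • p, l • l • p] (by norm_num)
      have hn : [pt 23, p, l • p, l • l • p, e].Nodup := by
        simp only [List.nodup_cons, List.mem_cons, List.not_mem_nil, or_false, not_or,
          not_false_eq_true, List.nodup_nil, and_true] at he ⊢
        exact ⟨⟨z0, nz z0, nz (nz z0), fun x => he.1 x.symm⟩,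
          ⟨n1.symm, h2.symm, fun x => he.2.1 x.symm⟩,
          ⟨fun x => n1.symm (inj x), fun x => he.2.2.1 x.symm⟩, fun x => he.2.2.2 x.symm⟩
      obtain ⟨x, x0, x1, x2, x3, x4⟩ := toBase hn
      exact use p23 hfx M23b.chk x0 x1 x2 x3 (i0 := 23) (i1 := 1) (i2 := 2) (i3 := 0)
        (by decide +kernel) (by rw [h0, x0]) x2 x3 (by rw [h3, x1]) (by simpa using x0)
    · push Not at hC
      obtain ⟨p, n1⟩ := exists_moved hl
      have h2 := hC p
      have z0 : pt 23 ≠ p := fun e => n1 (by rw [← e, h0])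
      by_cases hq : ∃ q, q ≠ p ∧ q ≠ l • p ∧ l • q ≠ q
      · obtain ⟨q, q1, q2, q4⟩ := hq
        have z1 : pt 23 ≠ q := fun e => q4 (by rw [← e, h0])
        have hn : [pt 23, p, l • p, q, l • q].Nodup := by
          simp only [List.nodup_cons, List.mem_cons, List.not_mem_nil, or_false, not_or,
            not_false_eq_true, List.nodup_nil, and_true]
          refine ⟨⟨z0, nz z0, z1, nz z1⟩, ⟨n1.symm, q1.symm, fun x => ?_⟩,
            ⟨q2.symm, fun x => q1 (inj x).symm⟩, q4.symm⟩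
          rw [← h2] at x
          exact q2 (inj x).symm
        obtain ⟨x, x0, x1, x2, x3, x4⟩ := toBase hn
        exact use p23 hfx M23c.chk x0 x1 x2 x3 (i0 := 23) (i1 := 1) (i2 := 0) (i3 := 3)
          (by decide +kernel) (by rw [h0, x0]) x2 (by rw [h2, x1]) x4 (by simpa using x0)
      · push Not at hq
        exfalso
        obtain ⟨e, he⟩ := exists_new [p, l • p] (by norm_num)
        refine hl (eq_one_of_three (a := p) (b := l • p) (c := e) ?_ fun q a b _ => hq q a b)
        simp only [List.nodup_cons, List.mem_cons, List.not_mem_nil, or_false, not_or,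
          not_false_eq_true, List.nodup_nil, and_true] at he ⊢
        exact ⟨⟨n1.symm, fun x => he.1 x.symm⟩, fun x => he.2 x.symm⟩

/-- **`M22`** -/
theorem ore22 (l : M24) (hl : l ≠ 1) (h0 : l • pt 23 = pt 23) (h1 : l • pt 0 = pt 0) :
    OreP [23, 0] 11 l := by
  have inj : ∀ {a b : GolayPt}, l • a = l • b → a = b := fun h => smul_left_cancel l h
  have hfx : ∀ i ∈ ([23, 0] : List ℕ), i < 24 := by decide
  have nz : ∀ {p : GolayPt}, pt 23 ≠ p → pt 23 ≠ l • p := fun h e => h (inj (h0.trans e))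
  have ny : ∀ {p : GolayPt}, pt 0 ≠ p → pt 0 ≠ l • p := fun h e => h (inj (h1.trans e))
  have zy : pt 23 ≠ pt 0 := by decide +kernel
  have fin : ∀ x : M24, x • pt 23 = pt 23 → x • pt 0 = pt 0 → ∀ i ∈ ([23, 0] : List ℕ), x • pt i = pt i := by
    intro x a b i hi
    simp only [List.mem_cons, List.not_mem_nil, or_false] at hi
    rcases hi with rfl | rfl
    · exact a
    · exact b
  by_cases hA : ∃ p : GolayPt, l • l • p ≠ p
  · obtain ⟨p, h2⟩ := hA
    have n1 : l • p ≠ p := fun e => h2 (by rw [e, e])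
    have z0 : pt 23 ≠ p := fun e => n1 (by rw [← e, h0])
    have y0 : pt 0 ≠ p := fun e => n1 (by rw [← e, h1])
    have hn : [pt 23, pt 0, p, l • p, l • l • p].Nodup := by
      simp only [List.nodup_cons, List.mem_cons, List.not_mem_nil, or_false, not_or,
        not_false_eq_true, List.nodup_nil, and_true]
      exact ⟨⟨zy, z0, nz z0, nz (nz z0)⟩, ⟨y0, ny y0, ny (ny y0)⟩, ⟨n1.symm, h2.symm⟩,
        fun x => n1.symm (inj x)⟩
    obtain ⟨x, x0, x1, x2, x3, x4⟩ := toBase hn
    exact use p11 hfx M22a.chk x0 x1 x2 x3 (i0 := 23) (i1 := 0) (i2 := 2) (i3 := 3)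
      (by decide +kernel) (by rw [h0, x0]) (by rw [h1, x1]) x3 x4 (fin x x0 x1)
  · push Not at hA
    obtain ⟨p, n1⟩ := exists_moved hl
    have h2 := hA p
    have z0 : pt 23 ≠ p := fun e => n1 (by rw [← e, h0])
    have y0 : pt 0 ≠ p := fun e => n1 (by rw [← e, h1])
    obtain ⟨e, he⟩ := exists_new [pt 23, pt 0, p, l • p] (by norm_num)
    have hn : [pt 23, pt 0, p, l • p, e].Nodup := by
      simp only [List.nodup_cons, List.mem_cons, List.not_mem_nil, or_false, not_or,
        not_false_eq_true, List.nodup_nil, and_true] at he ⊢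
      exact ⟨⟨zy, z0, nz z0, fun x => he.1 x.symm⟩, ⟨y0, ny y0, fun x => he.2.1 x.symm⟩,
        ⟨n1.symm, fun x => he.2.2.1 x.symm⟩, fun x => he.2.2.2 x.symm⟩
    obtain ⟨x, x0, x1, x2, x3, x4⟩ := toBase hn
    exact use p11 hfx M22b.chk x0 x1 x2 x3 (i0 := 23) (i1 := 0) (i2 := 2) (i3 := 1)
      (by decide +kernel) (by rw [h0, x0]) (by rw [h1, x1]) x3 (by rw [h2, x2]) (fin x x0 x1)

/-! ### Statements for the groups themselves -/

/-- every `l` is `[a, b]` with `a` of order `n` -/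
def OreA (G : Type*) [Group G] (n : ℕ) : Prop :=
  ∀ l : G, ∃ a b : G, orderOf a = n ∧ l = a * b * a⁻¹ * b⁻¹

/-- the property for an abstract group: every `l` is `[a, b]` with `⟨a, b⟩` containing an element of order `n` -/
def OreF (G : Type*) [Group G] (n : ℕ) : Prop :=
  ∀ l : G, ∃ a b : G, l = a * b * a⁻¹ * b⁻¹ ∧ ∃ c ∈ Subgroup.closure {a, b}, orderOf c = n

theorem OreA.congr {G H : Type*} [Group G] [Group H] {n : ℕ} (e : G ≃* H) (h : OreA G n) :
    OreA H n := by
  intro l
  obtain ⟨a, b, ho, hl⟩ := h (e.symm l)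
  refine ⟨e a, e b, ?_, ?_⟩
  · rw [MulEquiv.orderOf_eq, ho]
  · rw [← map_inv, ← map_inv, ← map_mul, ← map_mul, ← map_mul, ← hl, e.apply_symm_apply]

theorem OreA.oreF {G : Type*} [Group G] {n : ℕ} (h : OreA G n) : OreF G n := fun l => by
  obtain ⟨a, b, ho, hl⟩ := h l
  exact ⟨a, b, hl, a, Subgroup.subset_closure (Or.inl rfl), ho⟩

/-- the factors: every `l` is a product of two elements of order `n`, the second one conjugate to the inverse of the
first one -/
theorem OreA.factors {G : Type*} [Group G] {n : ℕ} (h : OreA G n) (l : G) :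
    ∃ c₁ c₂ : G, orderOf c₁ = n ∧ orderOf c₂ = n ∧ IsConj c₁⁻¹ c₂ ∧ l = c₁ * c₂ := by
  obtain ⟨a, b, ho, hl⟩ := h l
  refine ⟨a, b * a⁻¹ * b⁻¹, ho, ?_, isConj_iff.2 ⟨b, rfl⟩, by rw [hl]; group⟩
  rw [← ho, ← orderOf_inv a]
  exact MulEquiv.orderOf_eq (MulAut.conj b) a⁻¹

theorem OreF.dvd {G : Type*} [Group G] [Finite G] {n : ℕ} (h : OreF G n) (l : G) :
    ∃ a b : G, l = a * b * a⁻¹ * b⁻¹ ∧ n ∣ Nat.card (Subgroup.closure {a, b}) := by
  obtain ⟨a, b, hl, c, hc, ho⟩ := h l
  refine ⟨a, b, hl, ?_⟩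
  rw [← ho, ← Subgroup.orderOf_mk c hc]
  exact orderOf_dvd_natCard _

theorem OreF.congr {G H : Type*} [Group G] [Group H] {n : ℕ} (e : G ≃* H) (h : OreF G n) :
    OreF H n := by
  intro l
  obtain ⟨a, b, hl, c, hc, ho⟩ := h (e.symm l)
  refine ⟨e a, e b, ?_, e c, ?_, ?_⟩
  · rw [← map_inv, ← map_inv, ← map_mul, ← map_mul, ← map_mul, ← hl, e.apply_symm_apply]
  · have h1 : e.toMonoidHom c ∈ (Subgroup.closure {a, b}).map e.toMonoidHom :=
      Subgroup.mem_map_of_mem _ hc
    rw [MonoidHom.map_closure, Set.image_pair] at h1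
    exact h1
  · rw [MulEquiv.orderOf_eq, ho]

/-- passing from `M24` to a subgroup of the permutation group -/
theorem oreA_of {n : ℕ} {fx : List ℕ} {L : Subgroup (Equiv.Perm GolayPt)} (hL : L ≤ M24)
    (hfix : ∀ g : M24, (∀ i ∈ fx, g • pt i = pt i) ↔ (g : Equiv.Perm GolayPt) ∈ L)
    (hne : ∃ l : L, l ≠ 1) (h : ∀ l : M24, l ≠ 1 → (l : Equiv.Perm GolayPt) ∈ L → OreP fx n l) :
    OreA L n := by
  have key : ∀ l : L, l ≠ 1 → ∃ a b : L, orderOf a = n ∧ l = a * b * a⁻¹ * b⁻¹ := by
    intro l h1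
    obtain ⟨a, b, ha, hb, hl, ho⟩ := h ⟨l, hL l.2⟩ (fun e => h1 (Subtype.ext
      (show (l : Equiv.Perm GolayPt) = 1 from congrArg (fun y : M24 => (y : Equiv.Perm GolayPt)) e))) l.2
    refine ⟨⟨a, (hfix a).1 ha⟩, ⟨b, (hfix b).1 hb⟩, ?_, ?_⟩
    · rw [← ho, ← Subgroup.orderOf_coe, ← Subgroup.orderOf_coe a]
    · apply Subtype.ext
      have := congrArg (fun y : M24 => (y : Equiv.Perm GolayPt)) hl
      exact this
  intro l
  by_cases h1 : l = 1
  · obtain ⟨l0, h0⟩ := hne
    obtain ⟨a, -, ha, -⟩ := key l0 h0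
    exact ⟨a, 1, ha, by rw [h1]; group⟩
  · exact key l h1

/-- a nontrivial element of `M22` -/
def P0 : ℕ := 961151764622049670428279868241841216

theorem ok_P0 : ok P0 = true := by decide +kernel

theorem P0_fix : el P0 • pt 23 = pt 23 ∧ el P0 • pt 0 = pt 0 := by
  constructor
  · rw [el_smul_pt ok_P0]; decide +kernel
  · rw [el_smul_pt ok_P0]; decide +kernel

theorem P0_ne : el P0 ≠ 1 := by
  intro h
  have h1 : el P0 • pt 1 = pt 1 := by rw [h, one_smul]
  rw [el_smul_pt ok_P0] at h1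
  exact absurd h1 (by decide +kernel)

theorem pt23 : pt 23 = (none : GolayPt) := by decide +kernel
theorem pt0 : pt 0 = (some 0 : GolayPt) := by decide +kernel

/-- **`M24`**: `a` of order 23 -/
theorem oreA_M24 : OreA M24 23 := by
  refine oreA_of (L := M24) le_rfl (fx := []) (fun g => ⟨fun _ => g.2, fun _ => by simp⟩) ?_
    fun l hl _ => ore24 l hl
  exact ⟨el P0, P0_ne⟩

/-- **`M23`**: `a` of order 23 -/
theorem oreA_M23 : OreA Spor.M23 23 := by
  have hfix : ∀ g : M24, (∀ i ∈ [23], g • pt i = pt i) ↔ (g : Equiv.Perm GolayPt) ∈ Spor.M23 := by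
    intro g
    constructor
    · intro h
      have h1 := h 23 (by decide)
      rw [pt23] at h1
      exact ⟨g.2, h1⟩
    · intro h i hi
      rw [List.mem_singleton.1 hi, pt23]
      exact h.2
  refine oreA_of (L := Spor.M23) (fun g hg => hg.1) hfix ?_ fun l hl hm => ore23 l hl ?_
  · refine ⟨⟨el P0, (hfix (el P0)).1 ?_⟩, fun e => P0_ne (Subtype.ext (congrArg (fun y : Spor.M23 =>
      (y : Equiv.Perm GolayPt)) e))⟩
    intro i hi
    rw [List.mem_singleton.1 hi]
    exact P0_fix.1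
  · exact (hfix l).2 hm 23 (by decide)

/-- **`M22`**: `a` of order 11 -/
theorem oreA_M22 : OreA Spor.M22 11 := by
  have hfix : ∀ g : M24, (∀ i ∈ [23, 0], g • pt i = pt i) ↔ (g : Equiv.Perm GolayPt) ∈ Spor.M22 := by
    intro g
    constructor
    · intro h
      have h1 := h 23 (by decide)
      have h2 := h 0 (by decide)
      rw [pt23] at h1
      rw [pt0] at h2
      exact ⟨⟨g.2, h1⟩, h2⟩
    · intro h i hi
      simp only [List.mem_cons, List.not_mem_nil, or_false] at hi
      rcases hi with rfl | rfl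
      · rw [pt23]; exact h.1.2
      · rw [pt0]; exact h.2
  refine oreA_of (L := Spor.M22) (fun g hg => hg.1.1) hfix ?_ fun l hl hm => ore22 l hl ?_ ?_
  · refine ⟨⟨el P0, (hfix (el P0)).1 ?_⟩, fun e => P0_ne (Subtype.ext (congrArg (fun y : Spor.M22 =>
      (y : Equiv.Perm GolayPt)) e))⟩
    intro i hi
    simp only [List.mem_cons, List.not_mem_nil, or_false] at hi
    rcases hi with rfl | rfl
    · exact P0_fix.1
    · exact P0_fix.2
  · exact (hfix l).2 hm 23 (by decide)
  · exact (hfix l).2 hm 0 (by decide)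

theorem oreF_M24 : OreF M24 23 := oreA_M24.oreF
theorem oreF_M23 : OreF Spor.M23 23 := oreA_M23.oreF
theorem oreF_M22 : OreF Spor.M22 11 := oreA_M22.oreF

end Cfsg.Agent.H517.Ore.MAll
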