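import Mathlib

/-!
# Commutators in `A8`

* `oreA7`: every element of `A8` is `[a, b]` with `a` of order 7 (fixed point free on the 6-dimensional module);
* `oreA15`: every element which is not of type `2^4` is `[a, b]` with `a` of order 15 (fixed point free on the
  modules of dimension 4 and 6);
* `oreA3`: every element is `[a, b]` such that a power of `a` is the fifth power of an element of order 15
  (a three-cycle; fixed point free on the modules of dimension 4).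
-/

set_option autoImplicit false

namespace Cfsg.Agent.H517.Ore.AEight

open Equiv Equiv.Perm

/-- a permutation given by its values and those of its inverse -/
def mk (f g : Fin 8 → Fin 8) (h : ∀ x, g (f x) = x ∧ f (g x) = x) : Perm (Fin 8) :=
  ⟨f, g, fun x => (h x).1, fun x => (h x).2⟩

/-- type 0 -/
def r0 : Perm (Fin 8) := mk ![0, 1, 2, 3, 4, 5, 6, 7] ![0, 1, 2, 3, 4, 5, 6, 7] (by decide)
def a0 : Perm (Fin 8) := mk ![0, 2, 3, 4, 5, 6, 7, 1] ![0, 7, 1, 2, 3, 4, 5, 6] (by decide)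
def b0 : Perm (Fin 8) := mk ![0, 1, 2, 3, 4, 5, 6, 7] ![0, 1, 2, 3, 4, 5, 6, 7] (by decide)
def c0 : Perm (Fin 8) := mk ![1, 2, 0, 4, 5, 6, 7, 3] ![2, 0, 1, 7, 3, 4, 5, 6] (by decide)
def d0 : Perm (Fin 8) := mk ![0, 1, 2, 3, 4, 5, 6, 7] ![0, 1, 2, 3, 4, 5, 6, 7] (by decide)
/-- type {2, 2} -/
def r1 : Perm (Fin 8) := mk ![0, 1, 2, 3, 5, 4, 7, 6] ![0, 1, 2, 3, 5, 4, 7, 6] (by decide)
def a1 : Perm (Fin 8) := mk ![0, 4, 5, 6, 3, 7, 2, 1] ![0, 7, 6, 4, 1, 2, 3, 5] (by decide)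
def b1 : Perm (Fin 8) := mk ![0, 1, 4, 6, 5, 3, 2, 7] ![0, 1, 6, 5, 2, 4, 3, 7] (by decide)
def c1 : Perm (Fin 8) := mk ![1, 4, 3, 6, 0, 7, 5, 2] ![4, 0, 7, 2, 1, 6, 3, 5] (by decide)
def d1 : Perm (Fin 8) := mk ![2, 3, 0, 1, 7, 6, 5, 4] ![2, 3, 0, 1, 7, 6, 5, 4] (by decide)
/-- type {2, 2, 2, 2} -/
def r2 : Perm (Fin 8) := mk ![1, 0, 3, 2, 5, 4, 7, 6] ![1, 0, 3, 2, 5, 4, 7, 6] (by decide)
def a2 : Perm (Fin 8) := mk ![0, 2, 4, 6, 3, 1, 7, 5] ![0, 5, 1, 4, 2, 7, 3, 6] (by decide)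
def b2 : Perm (Fin 8) := mk ![6, 0, 1, 7, 3, 5, 4, 2] ![1, 2, 7, 4, 6, 5, 0, 3] (by decide)
def c2 : Perm (Fin 8) := mk ![0, 2, 3, 1, 6, 7, 4, 5] ![0, 3, 1, 2, 6, 7, 4, 5] (by decide)
def d2 : Perm (Fin 8) := mk ![2, 0, 1, 3, 4, 6, 7, 5] ![1, 2, 0, 3, 4, 7, 5, 6] (by decide)
def w2 : Perm (Fin 8) := mk ![4, 3, 1, 2, 5, 6, 7, 0] ![7, 2, 3, 1, 0, 4, 5, 6] (by decide)
/-- type {3} -/
def r3 : Perm (Fin 8) := mk ![0, 1, 2, 3, 4, 6, 7, 5] ![0, 1, 2, 3, 4, 7, 5, 6] (by decide)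
def a3 : Perm (Fin 8) := mk ![0, 2, 3, 5, 6, 7, 1, 4] ![0, 6, 1, 2, 7, 3, 4, 5] (by decide)
def b3 : Perm (Fin 8) := mk ![0, 1, 2, 3, 5, 7, 6, 4] ![0, 1, 2, 3, 7, 4, 6, 5] (by decide)
def c3 : Perm (Fin 8) := mk ![1, 2, 0, 5, 6, 7, 3, 4] ![2, 0, 1, 6, 7, 3, 4, 5] (by decide)
def d3 : Perm (Fin 8) := mk ![0, 1, 2, 3, 5, 7, 6, 4] ![0, 1, 2, 3, 7, 4, 6, 5] (by decide)
/-- type {2, 2, 3} -/
def r4 : Perm (Fin 8) := mk ![0, 2, 1, 4, 3, 6, 7, 5] ![0, 2, 1, 4, 3, 7, 5, 6] (by decide)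
def a4 : Perm (Fin 8) := mk ![0, 3, 4, 2, 5, 7, 1, 6] ![0, 6, 3, 1, 2, 4, 7, 5] (by decide)
def b4 : Perm (Fin 8) := mk ![0, 1, 7, 4, 5, 6, 3, 2] ![0, 1, 7, 6, 3, 4, 5, 2] (by decide)
def c4 : Perm (Fin 8) := mk ![1, 3, 4, 0, 5, 7, 2, 6] ![3, 0, 6, 1, 2, 4, 7, 5] (by decide)
def d4 : Perm (Fin 8) := mk ![0, 2, 1, 3, 4, 7, 6, 5] ![0, 2, 1, 3, 4, 7, 6, 5] (by decide)
/-- type {3, 3} -/
def r5 : Perm (Fin 8) := mk ![0, 1, 3, 4, 2, 6, 7, 5] ![0, 1, 4, 2, 3, 7, 5, 6] (by decide)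
def a5 : Perm (Fin 8) := mk ![0, 2, 4, 5, 3, 7, 1, 6] ![0, 6, 1, 4, 2, 3, 7, 5] (by decide)
def b5 : Perm (Fin 8) := mk ![0, 1, 4, 3, 2, 7, 6, 5] ![0, 1, 4, 3, 2, 7, 6, 5] (by decide)
def c5 : Perm (Fin 8) := mk ![1, 2, 4, 0, 3, 7, 5, 6] ![3, 0, 1, 4, 2, 6, 7, 5] (by decide)
def d5 : Perm (Fin 8) := mk ![0, 1, 4, 3, 2, 5, 7, 6] ![0, 1, 4, 3, 2, 5, 7, 6] (by decide)
/-- type {2, 4} -/
def r6 : Perm (Fin 8) := mk ![0, 1, 3, 2, 5, 6, 7, 4] ![0, 1, 3, 2, 7, 4, 5, 6] (by decide)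
def a6 : Perm (Fin 8) := mk ![0, 2, 4, 5, 3, 7, 1, 6] ![0, 6, 1, 4, 2, 3, 7, 5] (by decide)
def b6 : Perm (Fin 8) := mk ![0, 1, 3, 2, 4, 7, 6, 5] ![0, 1, 3, 2, 4, 7, 6, 5] (by decide)
def c6 : Perm (Fin 8) := mk ![1, 4, 5, 6, 0, 7, 2, 3] ![4, 0, 6, 7, 1, 2, 3, 5] (by decide)
def d6 : Perm (Fin 8) := mk ![3, 5, 0, 2, 6, 1, 4, 7] ![2, 5, 3, 0, 6, 1, 4, 7] (by decide)
/-- type {4, 4} -/
def r7 : Perm (Fin 8) := mk ![1, 2, 3, 0, 5, 6, 7, 4] ![3, 0, 1, 2, 7, 4, 5, 6] (by decide)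
def a7 : Perm (Fin 8) := mk ![0, 2, 4, 5, 6, 7, 3, 1] ![0, 7, 1, 6, 2, 3, 4, 5] (by decide)
def b7 : Perm (Fin 8) := mk ![1, 0, 3, 6, 4, 2, 5, 7] ![1, 0, 5, 2, 4, 6, 3, 7] (by decide)
def c7 : Perm (Fin 8) := mk ![2, 0, 1, 4, 6, 7, 5, 3] ![1, 2, 0, 7, 3, 6, 4, 5] (by decide)
def d7 : Perm (Fin 8) := mk ![4, 6, 5, 0, 1, 7, 3, 2] ![3, 4, 7, 6, 0, 2, 1, 5] (by decide)
/-- type {5} -/
def r8 : Perm (Fin 8) := mk ![0, 1, 2, 4, 5, 6, 7, 3] ![0, 1, 2, 7, 3, 4, 5, 6] (by decide)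
def a8 : Perm (Fin 8) := mk ![0, 2, 3, 5, 1, 7, 4, 6] ![0, 4, 1, 2, 6, 3, 7, 5] (by decide)
def b8 : Perm (Fin 8) := mk ![0, 1, 2, 7, 4, 5, 3, 6] ![0, 1, 2, 6, 4, 5, 7, 3] (by decide)
def c8 : Perm (Fin 8) := mk ![1, 2, 0, 5, 3, 7, 4, 6] ![2, 0, 1, 4, 6, 3, 7, 5] (by decide)
def d8 : Perm (Fin 8) := mk ![0, 1, 2, 3, 6, 4, 5, 7] ![0, 1, 2, 3, 5, 6, 4, 7] (by decide)
/-- type {3, 5} -/
def r9 : Perm (Fin 8) := mk ![1, 2, 0, 4, 5, 6, 7, 3] ![2, 0, 1, 7, 3, 4, 5, 6] (by decide)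
def a9 : Perm (Fin 8) := mk ![0, 2, 3, 5, 6, 7, 1, 4] ![0, 6, 1, 2, 7, 3, 4, 5] (by decide)
def b9 : Perm (Fin 8) := mk ![1, 0, 2, 7, 5, 3, 6, 4] ![1, 0, 2, 5, 7, 4, 6, 3] (by decide)
def c9 : Perm (Fin 8) := mk ![2, 0, 1, 5, 6, 7, 3, 4] ![1, 2, 0, 6, 7, 3, 4, 5] (by decide)
def d9 : Perm (Fin 8) := mk ![0, 2, 1, 3, 6, 4, 7, 5] ![0, 2, 1, 3, 5, 7, 4, 6] (by decide)
/-- type {2, 6} -/
def r10 : Perm (Fin 8) := mk ![1, 0, 3, 4, 5, 6, 7, 2] ![1, 0, 7, 2, 3, 4, 5, 6] (by decide)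
def a10 : Perm (Fin 8) := mk ![0, 2, 3, 5, 1, 7, 4, 6] ![0, 4, 1, 2, 6, 3, 7, 5] (by decide)
def b10 : Perm (Fin 8) := mk ![2, 0, 1, 7, 4, 5, 3, 6] ![1, 2, 0, 6, 4, 5, 7, 3] (by decide)
def c10 : Perm (Fin 8) := mk ![2, 3, 5, 0, 7, 1, 4, 6] ![3, 5, 0, 1, 6, 2, 7, 4] (by decide)
def d10 : Perm (Fin 8) := mk ![1, 6, 2, 3, 0, 4, 5, 7] ![4, 0, 2, 3, 5, 6, 1, 7] (by decide)
/-- type {7} -/
def r11 : Perm (Fin 8) := mk ![0, 2, 3, 4, 5, 6, 7, 1] ![0, 7, 1, 2, 3, 4, 5, 6] (by decide)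
def a11 : Perm (Fin 8) := mk ![0, 3, 1, 5, 6, 7, 2, 4] ![0, 2, 6, 1, 7, 3, 4, 5] (by decide)
def b11 : Perm (Fin 8) := mk ![0, 1, 6, 2, 4, 7, 5, 3] ![0, 1, 3, 7, 4, 6, 2, 5] (by decide)
def c11 : Perm (Fin 8) := mk ![1, 3, 0, 5, 7, 2, 4, 6] ![2, 0, 5, 1, 6, 3, 7, 4] (by decide)
def d11 : Perm (Fin 8) := mk ![0, 7, 2, 5, 3, 1, 6, 4] ![0, 5, 2, 4, 7, 3, 6, 1] (by decide)


/-- the table: `r`, `a`, `b`, `c`, `d` with `r = [a, b] = [c, d]`, `a` of order 7, `c` of order 15 (but for `2^4`) -/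
def tab : List (Perm (Fin 8) × Perm (Fin 8) × Perm (Fin 8) × Perm (Fin 8) × Perm (Fin 8)) := [
  (r0, a0, b0, c0, d0),
  (r1, a1, b1, c1, d1),
  (r2, a2, b2, c2, d2),
  (r3, a3, b3, c3, d3),
  (r4, a4, b4, c4, d4),
  (r5, a5, b5, c5, d5),
  (r6, a6, b6, c6, d6),
  (r7, a7, b7, c7, d7),
  (r8, a8, b8, c8, d8),
  (r9, a9, b9, c9, d9),
  (r10, a10, b10, c10, d10),
  (r11, a11, b11, c11, d11)]

/-- the cycle types of even permutations of eight points -/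
def types : List (Multiset ℕ) := [
  0,
  {2, 2},
  {2, 2, 2, 2},
  {3},
  {2, 2, 3},
  {3, 3},
  {2, 4},
  {4, 4},
  {5},
  {3, 5},
  {2, 6},
  {7}]

theorem types_ok : ∀ m ∈ types, ∃ t ∈ tab, t.1.cycleType = m := by
  intro m hm
  simp only [types, List.mem_cons, List.not_mem_nil, or_false] at hm
  rcases hm with rfl | rfl | rfl | rfl | rfl | rfl | rfl | rfl | rfl | rfl | rfl | rfl
  · exact ⟨(r0, a0, b0, c0, d0), by simp [tab], by decide +kernel⟩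
  · exact ⟨(r1, a1, b1, c1, d1), by simp [tab], by decide +kernel⟩
  · exact ⟨(r2, a2, b2, c2, d2), by simp [tab], by decide +kernel⟩
  · exact ⟨(r3, a3, b3, c3, d3), by simp [tab], by decide +kernel⟩
  · exact ⟨(r4, a4, b4, c4, d4), by simp [tab], by decide +kernel⟩
  · exact ⟨(r5, a5, b5, c5, d5), by simp [tab], by decide +kernel⟩
  · exact ⟨(r6, a6, b6, c6, d6), by simp [tab], by decide +kernel⟩
  · exact ⟨(r7, a7, b7, c7, d7), by simp [tab], by decide +kernel⟩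
  · exact ⟨(r8, a8, b8, c8, d8), by simp [tab], by decide +kernel⟩
  · exact ⟨(r9, a9, b9, c9, d9), by simp [tab], by decide +kernel⟩
  · exact ⟨(r10, a10, b10, c10, d10), by simp [tab], by decide +kernel⟩
  · exact ⟨(r11, a11, b11, c11, d11), by simp [tab], by decide +kernel⟩

theorem seven_ok : ∀ t ∈ tab, sign t.2.1 = 1 ∧ sign t.2.2.1 = 1 ∧
    t.1 = t.2.1 * t.2.2.1 * t.2.1⁻¹ * t.2.2.1⁻¹ ∧ t.2.1 ^ 7 = 1 ∧ t.2.1 ≠ 1 := by
  intro t ht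
  simp only [tab, List.mem_cons, List.not_mem_nil, or_false] at ht
  rcases ht with rfl | rfl | rfl | rfl | rfl | rfl | rfl | rfl | rfl | rfl | rfl | rfl <;> decide +kernel

theorem fifteen_ok : ∀ t ∈ tab, t.1.cycleType = {2, 2, 2, 2} ∨ (sign t.2.2.2.1 = 1 ∧ sign t.2.2.2.2 = 1 ∧
    t.1 = t.2.2.2.1 * t.2.2.2.2 * t.2.2.2.1⁻¹ * t.2.2.2.2⁻¹ ∧ t.2.2.2.1 ^ 15 = 1 ∧ t.2.2.2.1 ^ 5 ≠ 1 ∧
    t.2.2.2.1 ^ 3 ≠ 1) := by
  intro t ht
  simp only [tab, List.mem_cons, List.not_mem_nil, or_false] at ht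
  rcases ht with rfl | rfl | rfl | rfl | rfl | rfl | rfl | rfl | rfl | rfl | rfl | rfl <;> decide +kernel

theorem two_ok : sign c2 = 1 ∧ sign d2 = 1 ∧ r2 = c2 * d2 * c2⁻¹ * d2⁻¹ ∧ c2 ^ 4 = w2 ^ 5 ∧ sign w2 = 1 ∧
    w2 ^ 15 = 1 ∧ w2 ^ 5 ≠ 1 ∧ w2 ^ 3 ≠ 1 ∧ r2.cycleType = {2, 2, 2, 2} := by
  refine ⟨?_, ?_, ?_, ?_, ?_, ?_, ?_, ?_, ?_⟩ <;> decide +kernel

/-- a multiset of integers at least two with sum at most eight -/
theorem mem_types {m : Multiset ℕ} (h2 : ∀ a ∈ m, 2 ≤ a) (hs : m.sum ≤ 8) (he : Even (m.sum + m.card)) :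
    m ∈ types := by
  obtain ⟨l, hl, rfl⟩ : ∃ l : List ℕ, l.Pairwise (· ≤ ·) ∧ (l : Multiset ℕ) = m :=
    ⟨m.sort (· ≤ ·), Multiset.pairwise_sort _ _, Multiset.sort_eq _ _⟩
  simp only [Multiset.mem_coe, Multiset.sum_coe, Multiset.coe_card] at h2 hs he
  rcases l with _ | ⟨a, _ | ⟨b, _ | ⟨c, _ | ⟨d, _ | ⟨e, l⟩⟩⟩⟩⟩
  · decide
  · have ha := h2 a (by simp)
    simp only [List.sum_cons, List.sum_nil, List.length_cons, List.length_nil] at hs he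
    have : a ≤ 8 := by omega
    interval_cases a <;> first | (exfalso; revert he; decide) | decide
  · have ha := h2 a (by simp)
    have hb := h2 b (by simp)
    simp only [List.pairwise_cons, List.mem_cons, List.not_mem_nil, or_false, forall_eq] at hl
    have hab : a ≤ b := hl.1
    simp only [List.sum_cons, List.sum_nil, List.length_cons, List.length_nil] at hs he
    have : a ≤ 4 := by omega
    have : b ≤ 6 := by omega
    interval_cases a <;> interval_cases b <;>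
      first | (exfalso; omega) | (exfalso; revert he; decide) | decide
  · have ha := h2 a (by simp)
    have hb := h2 b (by simp)
    have hc := h2 c (by simp)
    simp only [List.pairwise_cons, List.mem_cons, List.not_mem_nil, or_false, forall_eq_or_imp,
      forall_eq] at hl
    have hab : a ≤ b := hl.1.1
    have hbc : b ≤ c := hl.2.1
    simp only [List.sum_cons, List.sum_nil, List.length_cons, List.length_nil] at hs he
    have : a ≤ 2 := by omega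
    have : b ≤ 3 := by omega
    have : c ≤ 4 := by omega
    interval_cases a <;> interval_cases b <;> interval_cases c <;>
      first | (exfalso; omega) | (exfalso; revert he; decide) | decide
  · have ha := h2 a (by simp)
    have hb := h2 b (by simp)
    have hc := h2 c (by simp)
    have hd := h2 d (by simp)
    simp only [List.sum_cons, List.sum_nil, List.length_cons, List.length_nil] at hs he
    have h1 : a = 2 := by omega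
    have h3 : b = 2 := by omega
    have h4 : c = 2 := by omega
    have h5 : d = 2 := by omega
    subst h1 h3 h4 h5
    decide
  · exfalso
    have ha := h2 a (by simp)
    have hb := h2 b (by simp)
    have hc := h2 c (by simp)
    have hd := h2 d (by simp)
    have he' := h2 e (by simp)
    simp only [List.sum_cons] at hs
    omega

theorem cycleType_mem (σ : Perm (Fin 8)) (h : sign σ = 1) : σ.cycleType ∈ types := by
  refine mem_types (fun a ha => Perm.two_le_of_mem_cycleType ha) ?_ ?_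
  · rw [Perm.sum_cycleType]
    exact le_trans (Finset.card_le_univ _) (by simp)
  · rw [Perm.sign_of_cycleType] at h
    by_contra hne
    rw [Nat.not_even_iff_odd] at hne
    rw [hne.neg_one_pow] at h
    exact absurd h (by decide)

/-- every even permutation is conjugate to a representative -/
theorem exists_rep (σ : Perm (Fin 8)) (h : sign σ = 1) : ∃ t ∈ tab, ∃ x : Perm (Fin 8),
    t.1.cycleType = σ.cycleType ∧ σ = x * t.1 * x⁻¹ := by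
  obtain ⟨t, ht, he⟩ := types_ok _ (cycleType_mem σ h)
  obtain ⟨x, hx⟩ := isConj_iff.1 (Perm.isConj_iff_cycleType_eq.2 he)
  exact ⟨t, ht, x, he, hx.symm⟩

theorem sign_conj (x a : Perm (Fin 8)) : sign (x * a * x⁻¹) = sign a := by
  rw [map_mul, map_mul, map_inv]
  rw [mul_comm (sign x), mul_assoc, mul_inv_cancel, mul_one]

theorem order15 {G : Type*} [Group G] {a : G} (h : a ^ 15 = 1) (h5 : a ^ 5 ≠ 1) (h3 : a ^ 3 ≠ 1) :
    orderOf a = 15 := by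
  have h1 : orderOf a ∣ 15 := orderOf_dvd_of_pow_eq_one h
  have h2 : orderOf a ∈ Nat.divisors 15 := Nat.mem_divisors.2 ⟨h1, by norm_num⟩
  have h4 : Nat.divisors 15 = {1, 3, 5, 15} := by decide
  rw [h4] at h2
  simp only [Finset.mem_insert, Finset.mem_singleton] at h2
  rcases h2 with h2 | h2 | h2 | h2
  · exact absurd (by rw [orderOf_eq_one_iff.1 h2, one_pow]) h3
  · exact absurd (by rw [← h2]; exact pow_orderOf_eq_one a) h3
  · exact absurd (by rw [← h2]; exact pow_orderOf_eq_one a) h5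
  · exact h2

/-- transport of a witness to `A8` -/
theorem lift {r a b x : Perm (Fin 8)} (ha : sign a = 1) (hb : sign b = 1) (h : r = a * b * a⁻¹ * b⁻¹)
    {l : alternatingGroup (Fin 8)} (hl : (l : Perm (Fin 8)) = x * r * x⁻¹) :
    ∃ a' b' : alternatingGroup (Fin 8), (a' : Perm (Fin 8)) = x * a * x⁻¹ ∧ l = a' * b' * a'⁻¹ * b'⁻¹ := by
  refine ⟨⟨x * a * x⁻¹, ?_⟩, ⟨x * b * x⁻¹, ?_⟩, rfl, ?_⟩
  · rw [Perm.mem_alternatingGroup, sign_conj, ha]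
  · rw [Perm.mem_alternatingGroup, sign_conj, hb]
  · apply Subtype.ext
    rw [hl, h]
    show _ = x * a * x⁻¹ * (x * b * x⁻¹) * (x * a * x⁻¹)⁻¹ * (x * b * x⁻¹)⁻¹
    group

theorem orderOf_conj (x a : Perm (Fin 8)) : orderOf (x * a * x⁻¹) = orderOf a :=
  MulEquiv.orderOf_eq (MulAut.conj x) a

/-- **order 7** -/
theorem oreA7 (l : alternatingGroup (Fin 8)) :
    ∃ a b : alternatingGroup (Fin 8), orderOf a = 7 ∧ l = a * b * a⁻¹ * b⁻¹ := by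
  obtain ⟨t, ht, x, -, hx⟩ := exists_rep l.1 (Perm.mem_alternatingGroup.1 l.2)
  obtain ⟨ha, hb, hr, h7, h1⟩ := seven_ok t ht
  obtain ⟨a', b', h', hl⟩ := lift ha hb hr hx
  refine ⟨a', b', ?_, hl⟩
  rw [← Subgroup.orderOf_coe, h', orderOf_conj]
  have : Fact (Nat.Prime 7) := ⟨by norm_num⟩
  exact orderOf_eq_prime h7 h1

/-- **order 15** -/
theorem oreA15 (l : alternatingGroup (Fin 8)) (hl4 : (l : Perm (Fin 8)).cycleType ≠ {2, 2, 2, 2}) :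
    ∃ a b : alternatingGroup (Fin 8), orderOf a = 15 ∧ l = a * b * a⁻¹ * b⁻¹ := by
  obtain ⟨t, ht, x, he, hx⟩ := exists_rep l.1 (Perm.mem_alternatingGroup.1 l.2)
  rcases fifteen_ok t ht with h0 | ⟨ha, hb, hr, h15, h5, h3⟩
  · exact absurd (he.symm.trans h0) hl4
  obtain ⟨a', b', h', hl⟩ := lift ha hb hr hx
  refine ⟨a', b', ?_, hl⟩
  rw [← Subgroup.orderOf_coe, h', orderOf_conj]
  exact order15 h15 h5 h3

/-- **a three-cycle**: a power of `a` is the fifth power of an element of order 15 -/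
theorem oreA3 (l : alternatingGroup (Fin 8)) :
    ∃ a b w : alternatingGroup (Fin 8), ∃ k : ℕ, orderOf w = 15 ∧ a ^ k = w ^ 5 ∧
      l = a * b * a⁻¹ * b⁻¹ := by
  by_cases hl4 : (l : Perm (Fin 8)).cycleType = {2, 2, 2, 2}
  · obtain ⟨hc, hd, hr, hw, hws, h15, h5, h3, hct⟩ := two_ok
    obtain ⟨x, hx⟩ := isConj_iff.1 (Perm.isConj_iff_cycleType_eq.2 (hct.trans hl4.symm))
    obtain ⟨a', b', h', hl⟩ := lift hc hd hr hx.symm
    refine ⟨a', b', ⟨x * w2 * x⁻¹, ?_⟩, 4, ?_, ?_, hl⟩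
    · rw [Perm.mem_alternatingGroup, sign_conj, hws]
    · rw [← Subgroup.orderOf_coe]
      show orderOf (x * w2 * x⁻¹) = 15
      rw [orderOf_conj]
      exact order15 h15 h5 h3
    · apply Subtype.ext
      show (a' : Perm (Fin 8)) ^ 4 = (x * w2 * x⁻¹) ^ 5
      rw [h', conj_pow, conj_pow, hw]
  · obtain ⟨a, b, ho, hl⟩ := oreA15 l hl4
    exact ⟨a, b, a, 5, ho, rfl, hl⟩

end Cfsg.Agent.H517.Ore.AEight
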